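import Cfsg.Agent.H392.Co3.Abs
import Cfsg.Agent.H392.KKL.X2a
import Cfsg.Agent.H553.KKL.AdjDim

/-!
# S1920, case B, `z` classical (helper392): the `sl₂`-decomposition of the centralizer of `z`

`D` simply laced, `r` a simple root, `z` a sign element such that no root `s` with `r + s` or `-r + s` a root is
even: then `1, J, V0` satisfy `Cfg` (`cfg_of`).
-/

set_option autoImplicit false
set_option linter.unusedSectionVars false

namespace Cfsg.Agent.H392.Co3

open CoxeterSystem Cfsg Cfsg.Lie Cfsg.Lie.ChevalleyDatum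
open Cfsg.Agent.ChevalleyStructure Cfsg.Agent.ChevalleyStructure.Elts Cfsg.Agent.ChevalleyStructure.CoxeterGeom
  Cfsg.Agent.ChevalleyStructure.CoxeterGeomTypes Cfsg.Agent.ChevalleyStructure.NPerm
open Cfsg.Agent.ChevalleyStructure.LieAbs Cfsg.Agent.ChevalleyStructure.Ring Cfsg.Agent.ChevalleyStructure.JacMain
  Cfsg.Agent.ChevalleyStructure.LieAut Cfsg.Agent.ChevalleyStructure.JacAll Cfsg.Agent.ChevalleyStructure.Columns
  Cfsg.Agent.ChevalleyStructure.Additive
open Cfsg.Agent.ChevalleyStructure.SL2Hom (up lo mem_closure_SL2)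
open Cfsg.Agent.Tits.Roots Cfsg.Agent.Nodes.Reps Cfsg.Agent.Nodes.BNOf Cfsg.Agent.Nodes.RGDChev
open Cfsg.Agent.OddHalf.LongSL Cfsg.Agent.OddHalf.LongSL.Chev
open Cfsg.Agent.KFacts.RgdChevCoord (TT XX)
open Cfsg.Agent.GenExc Cfsg.Agent.GenExc.Chev
open Cfsg.Agent.H167.EX Cfsg.Agent.H512.LinFour.IdealF Cfsg.Agent.H971.RV Cfsg.Agent.H553.KKL
open Cfsg.Agent.H392.KKL (nu nu_up nu_lo)
open Module Matrix
open scoped MatrixGroups

section Br

variable {D : ChevalleyDatum} {k : Type} [Field k] (S : SLac D)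

include S in
/-- the bracket with `e_r` on the vectors with no coordinate at the `s` with `r + s` a root -/
theorem br_even {r : ℕ} (hr : r < D.nroots) (hn : D.neg r < D.nroots) (v : D.Idx → k)
    (hv0 : ∀ s : Fin D.nroots, (∃ e ∈ row D r, e.1 = s.val) → v (Sum.inr s) = 0) :
    br D k (ex D k r) v = (-∑ i : Fin D.rank, v (Sum.inl i) * ((car D i.val r : ℤ) : k)) • ex D k r +
      v (Sum.inr ⟨D.neg r, hn⟩) • hv D k r := by
  obtain ⟨-, hne, -⟩ := S.neg r hr
  have h1 : D.negIdx.getD r 0 = D.neg r := rfl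
  ext j
  rw [br, adv_ex hr, Matrix.mulVec, dotProduct, Fintype.sum_sum_type, Pi.add_apply, Pi.smul_apply, Pi.smul_apply,
    smul_eq_mul, smul_eq_mul]
  congr 1
  · rw [neg_mul, Finset.sum_mul, ← Finset.sum_neg_distrib]
    refine Finset.sum_congr rfl fun i _ => ?_
    rw [adK_apply, coefE_entry D r 1 hr]
    rcases j with i' | u
    · simp [ex]
    · by_cases h : u.val = r
      · simp only [h, and_self, if_true]
        rw [← car_def]
        simp [ex, h]
        ring
      · simp [ex, h]
  · rw [Finset.sum_eq_single ⟨D.neg r, hn⟩]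
    · rw [adK_apply, coefE_entry D r 1 hr]
      rcases j with i | u
      · simp only [h1]
        rw [if_neg hne, if_pos trivial, if_pos trivial, mul_comm]
        rfl
      · simp only [h1]
        rw [if_neg hne, if_pos trivial]
        show _ = v _ * (0 : k)
        split_ifs <;> simp_all
    · intro s _ hs
      have hs' : s.val ≠ D.neg r := fun h => hs (Fin.ext h)
      by_cases hs0 : s.val = r
      · rw [adK_apply, coefE_entry D r 1 hr]
        rcases j with i | u
        · simp only [if_pos hs0]; simp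
        · simp only [if_pos hs0]; simp
      · by_cases he : ∃ e ∈ row D r, e.1 = s.val
        · rw [hv0 s he, mul_zero]
        · have h3 : ∀ u : ℕ, D.chainCoeff r s.val u = [] := by
            intro u
            have h4 : (D.chain.getD r #[]).toList.filter (fun e => e.1 = s.val) = [] := by
              rw [List.filter_eq_nil_iff]
              intro e he'
              simp only [decide_eq_true_eq]
              exact fun h => he ⟨e, he', h⟩
            rw [ChevalleyDatum.chainCoeff, h4, List.flatMap_nil]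
          rw [adK_apply, coefE_entry D r 1 hr]
          rcases j with i | u
          · simp only [h1]
            rw [if_neg hs0, if_neg hs']; simp
          · simp only [h1]
            rw [if_neg hs0, if_neg hs', h3]; simp
    · intro h
      exact absurd (Finset.mem_univ _) h

include S in
/-- the toral coordinates of a bracket -/
theorem br_inl {r : ℕ} (hr : r < D.nroots) (hn : D.neg r < D.nroots) (v : D.Idx → k) (i : Fin D.rank) :
    br D k (ex D k r) v (Sum.inl i) = v (Sum.inr ⟨D.neg r, hn⟩) * ((cor D r i.val : ℤ) : k) := by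
  obtain ⟨-, hne, -⟩ := S.neg r hr
  have h1 : D.negIdx.getD r 0 = D.neg r := rfl
  rw [br, adv_ex hr, Matrix.mulVec, dotProduct, Fintype.sum_sum_type]
  have h2 : ∑ j : Fin D.rank, adK D k r (Sum.inl i) (Sum.inl j) * v (Sum.inl j) = 0 := by
    refine Finset.sum_eq_zero fun j _ => ?_
    rw [adK_apply, coefE_entry D r 1 hr]
    simp
  rw [h2, zero_add, Finset.sum_eq_single ⟨D.neg r, hn⟩]
  · rw [adK_apply, coefE_entry D r 1 hr]
    simp only [h1]
    rw [if_neg hne, if_pos trivial, if_pos trivial, mul_comm]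
    rfl
  · intro s _ hs
    have hs' : s.val ≠ D.neg r := fun h => hs (Fin.ext h)
    rw [adK_apply, coefE_entry D r 1 hr]
    simp only [h1]
    by_cases hs0 : s.val = r
    · rw [if_pos hs0]; simp
    · rw [if_neg hs0, if_neg hs']; simp
  · intro h
    exact absurd (Finset.mem_univ _) h

include S in
theorem coord_zero {r : ℕ} (hr : r < D.nroots) (hn : D.neg r < D.nroots) {v : D.Idx → k} {i : Fin D.rank}
    (hi : ((cor D r i.val : ℤ) : k) ≠ 0) (hv0 : br D k (ex D k r) v = 0) : v (Sum.inr ⟨D.neg r, hn⟩) = 0 := by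
  have h1 := br_inl S hr hn v i
  rw [hv0] at h1
  exact (mul_eq_zero.1 h1.symm).resolve_right hi

include S in
theorem x_fix {r : ℕ} (hr : r < D.nroots) (hn : D.neg r < D.nroots) {v : D.Idx → k} {i : Fin D.rank}
    (hi : ((cor D r i.val : ℤ) : k) ≠ 0) (hv0 : br D k (ex D k r) v = 0) (t : k) : D.x k r t *ᵥ v = v := by
  have h1 := coord_zero S hr hn hi hv0
  rw [br, adv_ex hr] at hv0
  rw [x_eq_three S.toLac hr, Matrix.add_mulVec, Matrix.add_mulVec, Matrix.one_mulVec, Matrix.smul_mulVec,
    Matrix.smul_mulVec, hv0, coefE_two_mulVec S hr hn, h1, neg_zero, zero_smul, smul_zero, smul_zero, add_zero, add_zero]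

end Br

/-- the fixed space of `⟨X_r, X_{-r}⟩` -/
noncomputable def V0 (D : ChevalleyDatum) (k : Type) [Field k] (r : ℕ) : Submodule k (D.Idx → k) :=
  LinearMap.ker (Matrix.toLin' (adv (adR D k) (ex D k r))) ⊓
    LinearMap.ker (Matrix.toLin' (adv (adR D k) (ex D k (D.neg r))))

theorem mem_V0 {D : ChevalleyDatum} {k : Type} [Field k] {r : ℕ} {v : D.Idx → k} :
    v ∈ V0 D k r ↔ br D k (ex D k r) v = 0 ∧ br D k (ex D k (D.neg r)) v = 0 := by
  rw [V0, Submodule.mem_inf, LinearMap.mem_ker, LinearMap.mem_ker, Matrix.toLin'_apply, Matrix.toLin'_apply]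
  rfl

/-- the table facts -/
structure SlTab (D : ChevalleyDatum) {l : ℕ} (i₀ : Fin l) : Prop where
  self : ∃ i : Fin D.rank, cor D (D.simple i₀) i.val = 1
  cneg : ∀ i < D.rank, cor D (D.neg (D.simple i₀)) i = -cor D (D.simple i₀) i
  aneg : ∀ i < D.rank, car D i (D.neg (D.simple i₀)) = -car D i (D.simple i₀)
  rw1 : ∀ e ∈ row D (D.simple i₀), evB D [i₀] e.1 = false
  rw2 : ∀ e ∈ row D (D.neg (D.simple i₀)), evB D [i₀] e.1 = false

section Cfg

variable {D : ChevalleyDatum} {l : ℕ} {M : CoxeterMatrix (Fin l)} (hp : IsType D l M) {K : Type} [Field K]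
  (S : SLac D) (hT : Two D)

include S hT in
/-- the sign elements on the root vectors -/
theorem act_zS (h2 : (2 : K) ≠ 0) (T : List (Fin l)) :
    Act (zS hp K T) id (fun u => (-1 : K) ^ csum D T u) := by
  have hroot : ∀ r < D.nroots, rho D K (zS hp K T) (ex D K r) = ((-1 : K) ^ csum D T r) • ex D K r := by
    intro r hr
    have h1 := conj_zS hp K T hr 1
    rw [mul_one, mul_inv_eq_iff_eq_mul] at h1
    have h3 := act_root S h2 hr hr (g := zS hp K T) (a := (-1 : K) ^ csum D T r) h1
    rwa [ev_eq hr] at h3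
  have hsq : ∀ n : ℤ, (-1 : K) ^ n * (-1 : K) ^ n = 1 := by
    intro n
    rw [← mul_zpow]
    norm_num
  exact
    { lt := fun r hr => hr
      inv := fun r _ => rfl
      root := hroot
      cc := fun r _ => hsq _
      cartan := fun r hr => (act_cartan S hT h2 hr hr (hroot r hr) (hroot _ (S.neg r hr).1)).2 }

theorem nu_sq (K : Type) [Field K] : nu K * nu K = -1 := by
  apply Subtype.ext
  show !![(0 : K), 1; -1, 0] * !![0, 1; -1, 0] = -1
  ext i j; fin_cases i <;> fin_cases j <;> simp

include S hT in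
/-- **the configuration** -/
theorem cfg_of (h2 : (2 : K) ≠ 0) {i₀ : Fin l} (T : SlTab D i₀) {y : ↥(D.group K)} (hyy : y * y = 1)
    (hyJ : ∀ g ∈ (phi hp K i₀).range, y * g = g * y) :
    Cfg (rho D K y) (rho D K (zS hp K [i₀])) (rho D K (phi hp K i₀ (nu K))) (ex D K (D.simple i₀))
      (ex D K (D.neg (D.simple i₀))) (hv D K (D.simple i₀)) (V0 D K (D.simple i₀)) := by
  have hr : D.simple i₀ < D.nroots := RootVec.simple_lt hp.checked (lt_rank hp i₀)
  set r := D.simple i₀ with hrd
  obtain ⟨hn, hne, hnn⟩ := S.neg r hr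
  have hnn' : D.neg (D.neg r) < D.nroots := by rw [hnn]; exact hr
  -- `y`
  have hyx : ∀ g, (y : GL D.Idx K) * (phi hp K i₀ g : GL D.Idx K) = (phi hp K i₀ g : GL D.Idx K) * (y : GL D.Idx K) :=
    fun g => congrArg (fun x : ↥(D.group K) => (x : GL D.Idx K)) (hyJ _ ⟨g, rfl⟩)
  have ye : rho D K y (ex D K r) = (1 : K) • ex D K r := by
    have h1 := act_root S h2 hr hr (g := y) (a := 1) (by
      have := hyx (up 1)
      rwa [phi_up] at this)
    rwa [ev_eq hr] at h1
  have yf : rho D K y (ex D K (D.neg r)) = (1 : K) • ex D K (D.neg r) := by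
    have h1 := act_root S h2 hn hn (g := y) (a := 1) (by
      have := hyx (lo 1)
      rwa [phi_lo] at this)
    rwa [ev_eq hn] at h1
  have yh := (act_cartan S hT h2 hr hr ye yf).2
  rw [one_smul] at ye yf
  -- `j`
  have hju : ∀ t : K, (phi hp K i₀ (nu K) : GL D.Idx K) * xG S.inList r t =
      xG S.inList (D.neg r) (-t) * (phi hp K i₀ (nu K) : GL D.Idx K) := by
    intro t
    have h1 := congrArg (fun g => (phi hp K i₀ g : GL D.Idx K)) (nu_up t)
    simp only [map_mul, map_inv, Subgroup.coe_mul, Subgroup.coe_inv] at h1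
    rw [mul_inv_eq_iff_eq_mul, phi_up, phi_lo] at h1
    exact h1
  have hjl : ∀ t : K, (phi hp K i₀ (nu K) : GL D.Idx K) * xG S.inList (D.neg r) t =
      xG S.inList r (-t) * (phi hp K i₀ (nu K) : GL D.Idx K) := by
    intro t
    have h1 := congrArg (fun g => (phi hp K i₀ g : GL D.Idx K)) (nu_lo t)
    simp only [map_mul, map_inv, Subgroup.coe_mul, Subgroup.coe_inv] at h1
    rw [mul_inv_eq_iff_eq_mul, phi_up, phi_lo] at h1
    exact h1
  have je : rho D K (phi hp K i₀ (nu K)) (ex D K r) = (-1 : K) • ex D K (D.neg r) := by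
    have h1 := act_root S h2 hr hn (g := phi hp K i₀ (nu K)) (a := -1) (hju 1)
    rwa [ev_eq hr, ev_eq hn] at h1
  have jf : rho D K (phi hp K i₀ (nu K)) (ex D K (D.neg r)) = (-1 : K) • ex D K r := by
    have h1 := act_root S h2 hn hr (g := phi hp K i₀ (nu K)) (a := -1) (hjl 1)
    rwa [ev_eq hr, ev_eq hn] at h1
  have hhn : hv D K (D.neg r) = -hv D K r := by
    ext j
    rcases j with i | u
    · show ((cor D (D.neg r) i.val : ℤ) : K) = -((cor D r i.val : ℤ) : K)
      rw [T.cneg i.val i.2, Int.cast_neg]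
    · exact neg_zero.symm
  have jh : rho D K (phi hp K i₀ (nu K)) (hv D K r) = -hv D K r := by
    have h1 := (act_cartan S hT h2 hr hn je (by rw [hnn]; exact jf)).2
    rw [h1, hhn]
  rw [neg_one_smul] at je jf
  -- coordinates
  obtain ⟨i1, hi1⟩ := T.self
  have hc1 : ((cor D r i1.val : ℤ) : K) ≠ 0 := by rw [hi1, Int.cast_one]; exact one_ne_zero
  have hc2 : ((cor D (D.neg r) i1.val : ℤ) : K) ≠ 0 := by
    rw [T.cneg _ i1.2, hi1, Int.cast_neg, Int.cast_one]
    exact neg_ne_zero.2 one_ne_zero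
  have hfix : ∀ v ∈ V0 D K r, ∀ g, rho D K (phi hp K i₀ g) v = v := by
    intro v hv0 g
    rw [mem_V0] at hv0
    have h1 : g ∈ (MulAction.stabilizer (Module.End K (D.Idx → K))ˣ v).comap
        ((MonoidHom.toHomUnits (rho D K)).comp (phi hp K i₀)) := by
      refine (Subgroup.closure_le _).2 ?_ (SL2Hom.mem_closure_SL2 g)
      rintro x (⟨t, rfl⟩ | ⟨t, rfl⟩)
      · show rho D K (phi hp K i₀ (up t)) v = v
        rw [rho_apply, phi_up]
        exact x_fix S hr hn hc1 hv0.1 t
      · show rho D K (phi hp K i₀ (lo t)) v = v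
        rw [rho_apply, phi_lo]
        exact x_fix S hn hnn' hc2 hv0.2 t
    exact h1
  -- the even vectors
  have A := act_zS hp S hT h2 [i₀]
  have hodd : ∀ v, rho D K (zS hp K [i₀]) v = v → ∀ s : Fin D.nroots, evB D [i₀] s.val = false →
      v (Sum.inr s) = 0 := by
    intro v hv1 s hs
    have h1 := A.apply_inr S v s.2
    rw [hv1] at h1
    have h3 : Odd (csum D [i₀] s.val) := by
      rw [← Int.not_even_iff_odd, ← evB_iff hp [i₀] s.2, hs]
      decide
    rw [h3.neg_one_zpow] at h1
    have h4 : v (Sum.inr s) = -1 * v (Sum.inr s) := h1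
    have h5 : (2 : K) * v (Sum.inr s) = 0 := by linear_combination h4
    exact (mul_eq_zero.1 h5).resolve_left h2
  have hvz : ∀ v, rho D K (zS hp K [i₀]) v = v →
      (∀ s : Fin D.nroots, (∃ e ∈ row D r, e.1 = s.val) → v (Sum.inr s) = 0) ∧
      (∀ s : Fin D.nroots, (∃ e ∈ row D (D.neg r), e.1 = s.val) → v (Sum.inr s) = 0) := by
    intro v hv1
    constructor
    · rintro s ⟨e, he, h1⟩
      exact hodd v hv1 s (by rw [← h1]; exact T.rw1 e he)
    · rintro s ⟨e, he, h1⟩
      exact hodd v hv1 s (by rw [← h1]; exact T.rw2 e he)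
  have hz : rho D K (zS hp K [i₀]) = rho D K (phi hp K i₀ (nu K)) * rho D K (phi hp K i₀ (nu K)) := by
    rw [← map_mul, ← map_mul, nu_sq, zS_cons, zS_nil, mul_one]
  have er1 : ex D K r (Sum.inr ⟨D.neg r, hn⟩) = 0 := by
    show (if D.neg r = r then (1 : K) else 0) = 0
    rw [if_neg hne]
  have er2 : ex D K r (Sum.inr ⟨r, hr⟩) = 1 := by
    show (if r = r then (1 : K) else 0) = 1
    rw [if_pos rfl]
  have fr1 : ex D K (D.neg r) (Sum.inr ⟨D.neg r, hn⟩) = 1 := by
    show (if D.neg r = D.neg r then (1 : K) else 0) = 1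
    rw [if_pos rfl]
  have fr2 : ex D K (D.neg r) (Sum.inr ⟨r, hr⟩) = 0 := by
    show (if r = D.neg r then (1 : K) else 0) = 0
    rw [if_neg hne.symm]
  have htwo : ∑ i : Fin D.rank, ((cor D r i.val : ℤ) : K) * ((car D i.val r : ℤ) : K) = 2 := by
    have h1 := congrArg (fun z : ℤ => (z : K)) (hT r hr)
    simp only [Int.cast_sum, Int.cast_mul] at h1
    rw [h1]
    norm_num
  exact
    { ye := ye
      yf := yf
      yh := yh
      je := je
      jf := jf
      jh := jh
      yV := fun v hv0 => by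
        rw [mem_V0] at hv0 ⊢
        constructor
        · have h1 := congrArg (rho D K y) hv0.1
          rwa [rho_br S.inList, ye, map_zero] at h1
        · have h1 := congrArg (rho D K y) hv0.2
          rwa [rho_br S.inList, yf, map_zero] at h1
      jV := fun v hv0 => hfix v hv0 _
      yy := by rw [← map_mul, hyy, map_one]
      jj := hz.symm
      yj := by rw [← map_mul, ← map_mul, hyJ _ ⟨nu K, rfl⟩]
      dec := fun v hv1 => by
        set c : K := (∑ i : Fin D.rank, v (Sum.inl i) * ((car D i.val r : ℤ) : K)) / 2 with hc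
        set v0 := v - v (Sum.inr ⟨r, hr⟩) • ex D K r - v (Sum.inr ⟨D.neg r, hn⟩) • ex D K (D.neg r) - c • hv D K r
          with hv0
        refine ⟨v (Sum.inr ⟨r, hr⟩), v (Sum.inr ⟨D.neg r, hn⟩), c, v0, ?_, by rw [hv0]; abel⟩
        have hz0 : rho D K (zS hp K [i₀]) v0 = v0 := by
          rw [hv0, map_sub, map_sub, map_sub, map_smul, map_smul, map_smul, hv1, hz, Module.End.mul_apply,
            Module.End.mul_apply, Module.End.mul_apply, je, jf, jh, map_neg, map_neg, map_neg, je, jf, jh]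
          simp only [neg_neg]
        obtain ⟨h3, h4⟩ := hvz v0 hz0
        have hs0 : ∑ i : Fin D.rank, v0 (Sum.inl i) * ((car D i.val r : ℤ) : K) = 0 := by
          have h5 : ∀ i : Fin D.rank, v0 (Sum.inl i) * ((car D i.val r : ℤ) : K) =
              v (Sum.inl i) * ((car D i.val r : ℤ) : K) - c * (((cor D r i.val : ℤ) : K) * ((car D i.val r : ℤ) : K)) := by
            intro i
            have h6 : v0 (Sum.inl i) = v (Sum.inl i) - v (Sum.inr ⟨r, hr⟩) * 0 - v (Sum.inr ⟨D.neg r, hn⟩) * 0 -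
              c * ((cor D r i.val : ℤ) : K) := rfl
            rw [h6]
            ring
          rw [Finset.sum_congr rfl fun i _ => h5 i, Finset.sum_sub_distrib, ← Finset.mul_sum, htwo, hc]
          field_simp
          ring
        have e1 : v0 (Sum.inr ⟨D.neg r, hn⟩) = 0 := by
          have h6 : v0 (Sum.inr ⟨D.neg r, hn⟩) = v (Sum.inr ⟨D.neg r, hn⟩) -
            v (Sum.inr ⟨r, hr⟩) * ex D K r (Sum.inr ⟨D.neg r, hn⟩) -
            v (Sum.inr ⟨D.neg r, hn⟩) * ex D K (D.neg r) (Sum.inr ⟨D.neg r, hn⟩) - c * 0 := rfl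
          rw [h6, er1, fr1]
          ring
        have e2 : v0 (Sum.inr ⟨r, hr⟩) = 0 := by
          have h6 : v0 (Sum.inr ⟨r, hr⟩) = v (Sum.inr ⟨r, hr⟩) -
            v (Sum.inr ⟨r, hr⟩) * ex D K r (Sum.inr ⟨r, hr⟩) -
            v (Sum.inr ⟨D.neg r, hn⟩) * ex D K (D.neg r) (Sum.inr ⟨r, hr⟩) - c * 0 := rfl
          rw [h6, er2, fr2]
          ring
        rw [mem_V0]
        constructor
        · rw [br_even S hr hn v0 h3, hs0, e1, neg_zero, zero_smul, zero_smul, add_zero]
        · have h5 : ∑ i : Fin D.rank, v0 (Sum.inl i) * ((car D i.val (D.neg r) : ℤ) : K) = 0 := by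
            rw [← neg_eq_zero, ← Finset.sum_neg_distrib, ← hs0]
            refine Finset.sum_congr rfl fun i _ => ?_
            rw [T.aneg _ i.2, Int.cast_neg]
            ring
          have h6 : v0 (Sum.inr ⟨D.neg (D.neg r), hnn'⟩) = 0 := by
            rw [← e2]
            congr 2
            exact Fin.ext hnn
          rw [br_even S hn hnn' v0 h4, h5, h6, neg_zero, zero_smul, zero_smul, add_zero]
      ind := fun a b c h => by
        rw [mem_V0] at h
        have h1 := coord_zero S hr hn hc1 h.1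
        have h3 := coord_zero S hn hnn' hc2 h.2
        have h4 : a * ex D K r (Sum.inr ⟨D.neg r, hn⟩) + b * ex D K (D.neg r) (Sum.inr ⟨D.neg r, hn⟩) + c * 0 = 0 := h1
        have h5 : a * ex D K r (Sum.inr ⟨D.neg (D.neg r), hnn'⟩) +
          b * ex D K (D.neg r) (Sum.inr ⟨D.neg (D.neg r), hnn'⟩) + c * 0 = 0 := h3
        have h6 : (⟨D.neg (D.neg r), hnn'⟩ : Fin D.nroots) = ⟨r, hr⟩ := Fin.ext hnn
        rw [h6, er2, fr2] at h5
        rw [er1, fr1] at h4
        have ha : a = 0 := by linear_combination h5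
        have hb : b = 0 := by linear_combination h4
        refine ⟨ha, hb, ?_⟩
        have h7 := h.1
        rw [ha, hb, zero_smul, zero_smul, zero_add, zero_add, br_smul_right, br_hv hT hr, smul_smul] at h7
        rcases smul_eq_zero.1 h7 with h8 | h8
        · rcases mul_eq_zero.1 h8 with h9 | h9
          · exact h9
          · exact absurd h9 (neg_ne_zero.2 h2)
        · exact absurd h8 (ex_ne_zero hr) }

end Cfg

end Cfsg.Agent.H392.Co3
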